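import Groth.Agent.L14.HM.Gen.Pts
import Groth.Agent.L08.Chevalley
import Groth.Agent.L08.InvFinite
import Mathlib.RingTheory.Bialgebra.Hom
import Mathlib.Data.Fintype.EquivFin

/-!
# Linear actions extend to closed embeddings in general linear groups
-/

set_option autoImplicit false
set_option linter.style.haveILetI false
set_option backward.isDefEq.respectTransparency false

universe u v

open TensorProduct CoordGrp Groth.L08.Chevalley

noncomputable section

namespace Groth.L14.HM.Gen

variable {k : Type u} [Field k] {A : Type u} [CommRing A] [HopfAlgebra k A]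

theorem exists_bialgHom_of_comatrix {N : ℕ} (a : Fin N → Fin N → A) (h : IsComatrix (k := k) a) :
    ∃ π : GLn N k →ₐc[k] A, ∀ i j, π (GLn.X i j) = a i j := by
  have hu : IsUnit (Matrix.of a).det := by
    have h1 := congrArg Matrix.det (mat_pinv_mul a h (AlgHom.id k A))
    rw [Matrix.det_mul, Matrix.det_one, mul_comm] at h1
    exact IsUnit.of_mul_eq_one _ h1
  let π₀ : GLn N k →ₐ[k] A := pt (Matrix.of a) hu
  refine ⟨BialgHom.ofAlgHom π₀ (ext ?_) (ext ?_), fun i j => congrFun (congrFun (mat_pt (k := k) (Matrix.of a) hu) i) j⟩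
  · rw [mat_comp, mat_pt, mat_counit]
    ext i j
    rw [Matrix.map_apply, Matrix.of_apply, Bialgebra.counitAlgHom_apply, h.counit_eq, Matrix.one_apply]
  · ext i j
    have hπ : ∀ i j, π₀ (GLn.X i j) = a i j := fun i j =>
      congrFun (congrFun (mat_pt (k := k) (Matrix.of a) hu) i) j
    simp [GLn.comul_X, hπ, h.comul_eq]

theorem exists_comatrix_of_subcomod [Algebra.FiniteType k A] :
    ∃ (d : ℕ) (a : Fin d → Fin d → A), IsComatrix (k := k) a ∧
      Algebra.adjoin k (Set.range fun p : Fin d × Fin d => a p.1 p.2) = ⊤ := by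
  classical
  obtain ⟨s, hs, hsub⟩ := Groth.L08.exists_finset_adjoin_isSubcomod (k := k) (A := A) (R := A)
  let W : Submodule k A := Submodule.span k (s : Set A)
  haveI : Module.Finite k W := Module.Finite.span_of_finite k s.finite_toSet
  let b := Module.finBasis k W
  have hc : ∀ j, ∃ y : W ⊗[k] A, W.subtype.rTensor A y = Coalgebra.comul (R := k) (b j : A) :=
    fun j => hsub _ (b j).2
  choose y hy using hc
  let a : Fin (Module.finrank k W) → Fin (Module.finrank k W) → A :=
    fun i j => TensorProduct.lid k A ((b.coord i).rTensor A (y j))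
  have hsum : ∀ j, y j = ∑ i, b i ⊗ₜ[k] a i j := by
    intro j
    have : ∀ z : W ⊗[k] A, z = ∑ i, b i ⊗ₜ[k] TensorProduct.lid k A ((b.coord i).rTensor A z) := by
      intro z
      induction z using TensorProduct.induction_on with
      | zero => simp
      | add x y hx hy =>
        simp only [map_add, tmul_add, Finset.sum_add_distrib]
        rw [← hx, ← hy]
      | tmul x c =>
        simp only [LinearMap.rTensor_tmul, TensorProduct.lid_tmul, Module.Basis.coord_apply, ← smul_tmul]
        rw [← sum_tmul, b.sum_repr]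
    exact this _
  have hΔ : ∀ j, Coalgebra.comul (R := k) (b j : A) = ∑ i, (b i : A) ⊗ₜ[k] a i j := fun j => by
    rw [← hy, hsum]; simp
  obtain ⟨l, hl⟩ := W.subtype.exists_leftInverse_of_injective W.ker_subtype
  have hl' : ∀ x : W, l (x : A) = x := fun x => LinearMap.congr_fun hl x
  refine ⟨_, a, ⟨fun i j => ?_, fun i j => ?_⟩, ?_⟩
  · have h1 := Coalgebra.coassoc_apply (R := k) (b j : A)
    rw [hΔ] at h1
    simp only [map_sum, LinearMap.rTensor_tmul, LinearMap.lTensor_tmul, hΔ, sum_tmul, TensorProduct.assoc_tmul] at h1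
    have h2 := congrArg (fun z => TensorProduct.lid k (A ⊗[k] A) ((b.coord i ∘ₗ l).rTensor (A ⊗[k] A) z)) h1
    simp only [map_sum, LinearMap.rTensor_tmul, TensorProduct.lid_tmul, LinearMap.comp_apply, hl',
      Module.Basis.coord_apply, Module.Basis.repr_self, Finsupp.single_apply, ite_smul, one_smul, zero_smul,
      Finset.sum_ite_eq', Finset.mem_univ, if_true] at h2
    exact h2.symm
  · have h1 := Coalgebra.lTensor_counit_comul (R := k) (b j : A)
    rw [hΔ] at h1
    have h2 := congrArg (fun z => TensorProduct.lid k k ((b.coord i ∘ₗ l).rTensor k z)) h1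
    simp only [map_sum, LinearMap.lTensor_tmul, LinearMap.rTensor_tmul, TensorProduct.lid_tmul, LinearMap.comp_apply,
      hl', Module.Basis.coord_apply, Module.Basis.repr_self, Finsupp.single_apply, ite_smul, one_smul, zero_smul,
      Finset.sum_ite_eq', Finset.mem_univ, if_true, smul_eq_mul, mul_one, ite_mul, one_mul, zero_mul] at h2
    rw [h2]
    simp [eq_comm]
  · refine top_le_iff.1 (hs ▸ Algebra.adjoin_le fun x hx => ?_)
    have hb : ∀ j, (b j : A) ∈ Algebra.adjoin k (Set.range fun p : Fin _ × Fin _ => a p.1 p.2) := fun j => by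
      have h1 := congrArg (TensorProduct.lid k A) (Coalgebra.rTensor_counit_comul (R := k) (b j : A))
      rw [hΔ] at h1
      simp only [map_sum, LinearMap.rTensor_tmul, TensorProduct.lid_tmul, one_smul] at h1
      rw [← h1]
      exact sum_mem fun i _ => Subalgebra.smul_mem _
        (Algebra.subset_adjoin (s := Set.range fun p : Fin _ × Fin _ => a p.1 p.2) ⟨(i, j), rfl⟩) _
    let xW : W := ⟨x, Submodule.subset_span hx⟩
    have hxW : xW = ∑ i, b.repr xW i • b i := (b.sum_repr _).symm
    have := congrArg Subtype.val hxW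
    rw [Submodule.coe_sum] at this
    rw [SetLike.mem_coe, show x = (xW : A) from rfl, this]
    exact sum_mem fun i _ => Subalgebra.smul_mem _ (hb i) _

/-- A linear action is the restriction of a closed embedding in a general linear group. -/
theorem exists_embedding [Algebra.FiniteType k A] {ι : Type v} [Fintype ι]
    [HopfRep.Comod k A (MvPolynomial ι k)] [GLin.IsCoactAlg k A (MvPolynomial ι k)] (hlin : GLin.IsLinear k A ι)
    (v : ι → k) :
    ∃ (N : ℕ) (π : GLn N k →ₐc[k] A) (emb : ι → Fin N) (w : Fin N → k), Function.Surjective π ∧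
      ∀ (B : Type u) [CommRing B] [Algebra k B] (h : A →ₐ[k] B),
        (∀ i, h (GLin.orbitHom k A (GLin.vecPt k ι v) (MvPolynomial.X i)) =
          Matrix.vecMul (fun a => algebraMap k B (w a)) (gMat π h) (emb i)) ∧
        ∀ b, b ∉ Set.range emb → Matrix.vecMul (fun a => algebraMap k B (w a)) (gMat π h) b = 0 := by
  classical
  choose m hm using hlin
  obtain ⟨d, a₂, hcm₂, hgen₂⟩ := exists_comatrix_of_subcomod (k := k) (A := A)
  let e := Fintype.equivFin (ι ⊕ Fin d)
  let a₀ : ι ⊕ Fin d → ι ⊕ Fin d → A := fun p q =>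
    match p, q with
    | Sum.inl j, Sum.inl i => m i j
    | Sum.inr p, Sum.inr q => a₂ p q
    | _, _ => 0
  have hX : ∀ (B : Type u) [AddCommGroup B] [Module k B] (f g : ι → B),
      ∑ j, (MvPolynomial.X j : MvPolynomial ι k) ⊗ₜ[k] f j = ∑ j, MvPolynomial.X j ⊗ₜ[k] g j → f = g := by
    intro B _ _ f g h
    funext j₀
    have := congrArg (TensorProduct.lid k B ∘ₗ (MvPolynomial.lcoeff k (Finsupp.single j₀ 1)).rTensor B : _ →ₗ[k] B) h
    simpa [MvPolynomial.coeff_X, Finsupp.single_left_inj, ite_smul] using this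
  have hcm₁ : IsComatrix (k := k) (fun j i => m i j) := by
    refine ⟨fun j i => ?_, fun j i => ?_⟩
    · have h1 := LinearMap.congr_fun (HopfRep.Comod.coassoc (k := k) (A := A) (V := MvPolynomial ι k)) (MvPolynomial.X i)
      simp only [LinearMap.comp_apply, LinearEquiv.coe_coe, hm, map_sum, LinearMap.rTensor_tmul, LinearMap.lTensor_tmul,
        sum_tmul, TensorProduct.assoc_tmul] at h1
      rw [Finset.sum_comm] at h1
      simp only [← tmul_sum] at h1
      exact (congrFun (hX _ _ _ h1) j).symm
    · have h1 := LinearMap.congr_fun (HopfRep.Comod.counit_comp (k := k) (A := A) (V := MvPolynomial ι k))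
        (MvPolynomial.X i)
      simp only [LinearMap.comp_apply, hm, map_sum, LinearMap.lTensor_tmul, LinearMap.flip_apply,
        TensorProduct.mk_apply] at h1
      have h2 := hX k (fun l => CoalgebraStruct.counit (R := k) (m i l)) (fun l => if l = i then 1 else 0)
        (h1.trans (by simp [tmul_ite]))
      simpa [eq_comm] using congrFun h2 j
  have hcm₀ : IsComatrix (k := k) a₀ := by
    refine ⟨fun p q => ?_, fun p q => ?_⟩
    · rw [Fintype.sum_sum_type]
      rcases p with p | p <;> rcases q with q | q <;> simp [a₀, hcm₁.comul_eq, hcm₂.comul_eq]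
    · rcases p with p | p <;> rcases q with q | q <;> simp [a₀, hcm₁.counit_eq, hcm₂.counit_eq]
  let a : Fin (Fintype.card (ι ⊕ Fin d)) → Fin (Fintype.card (ι ⊕ Fin d)) → A :=
    fun p q => a₀ (e.symm p) (e.symm q)
  have hcm : IsComatrix (k := k) a := by
    refine ⟨fun p q => ?_, fun p q => ?_⟩
    · rw [hcm₀.comul_eq]
      exact (Equiv.sum_comp e.symm fun l => a₀ (e.symm p) l ⊗ₜ[k] a₀ l (e.symm q)).symm
    · simp [a, hcm₀.counit_eq]
  obtain ⟨π, hπ⟩ := exists_bialgHom_of_comatrix a hcm
  let w₀ : ι ⊕ Fin d → k := Sum.elim v 0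
  refine ⟨_, π, fun i => e (Sum.inl i), fun p => w₀ (e.symm p), fun x => ?_, ?_⟩
  · have htop : (⊤ : Subalgebra k A) ≤ (π : GLn (Fintype.card (ι ⊕ Fin d)) k →ₐ[k] A).range := by
      rw [← hgen₂]
      refine Algebra.adjoin_le ?_
      rintro _ ⟨⟨p, q⟩, rfl⟩
      exact ⟨GLn.X (e (Sum.inr p)) (e (Sum.inr q)), by
        change π _ = _
        rw [hπ]
        simp [a, a₀]⟩
    exact htop (Algebra.mem_top (x := x))
  · intro B _ _ h
    have hval : ∀ q : ι ⊕ Fin d, Matrix.vecMul (fun p => algebraMap k B (w₀ (e.symm p))) (gMat π h) (e q) =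
        ∑ p, algebraMap k B (w₀ p) * h (a₀ p q) := fun q => by
      simp only [Matrix.vecMul, dotProduct, gMat, mat_apply, AlgHom.comp_apply]
      refine Eq.trans (Finset.sum_congr rfl fun p _ => ?_)
        (Equiv.sum_comp e.symm fun p => algebraMap k B (w₀ p) * h (a₀ p q))
      rw [show (π : GLn (Fintype.card (ι ⊕ Fin d)) k →ₐ[k] A) (GLn.X p (e q)) = a p (e q) from hπ _ _]
      simp [a]
    refine ⟨fun i => ?_, fun b hb => ?_⟩
    · rw [hval, Fintype.sum_sum_type]
      rw [GLin.orbitHom, AlgHom.comp_apply, AlgHom.comp_apply, GLin.coactAlgHom_apply, hm]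
      simp [w₀, a₀, map_sum, Algebra.smul_def]
    · obtain ⟨q, rfl⟩ := e.surjective b
      rcases q with i | q
      · exact absurd ⟨i, rfl⟩ hb
      · rw [hval, Fintype.sum_sum_type]
        simp [w₀, a₀]

end Groth.L14.HM.Gen
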