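import Groth.Prelude.Def_GLin6
import Groth.Agent.L08.GITSep
import Groth.Agent.L08.InvFinite
import Mathlib.LinearAlgebra.TensorProduct.Basis
import Mathlib.Algebra.MonoidAlgebra.Module
import Mathlib.Algebra.MonoidAlgebra.Basic

/-!
# Points of the general linear group and functions invariant under a closed subgroup
-/

set_option autoImplicit false
set_option linter.style.haveILetI false
set_option backward.isDefEq.respectTransparency false

universe u v

open TensorProduct CoordGrp

noncomputable section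

namespace Groth.L14.HM.Gen

variable {k : Type u} [Field k] {N : ℕ} {B : Type v} [CommRing B] [Algebra k B]

/-- The matrix of a point. -/
def mat (x : GLn N k →ₐ[k] B) : Matrix (Fin N) (Fin N) B := Matrix.of fun i j => x (GLn.X i j)

@[simp] theorem mat_apply (x : GLn N k →ₐ[k] B) (i j : Fin N) : mat x i j = x (GLn.X i j) := rfl

theorem det_mat_mul (x : GLn N k →ₐ[k] B) : (mat x).det * x GLn.Dinv = 1 := by
  rw [← map_one x, ← GLn.det_mul_Dinv, map_mul, GLn.det_eq, AlgHom.map_det]
  rfl

theorem isUnit_det_mat (x : GLn N k →ₐ[k] B) : IsUnit (mat x).det :=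
  IsUnit.of_mul_eq_one _ (det_mat_mul x)

theorem ext {x y : GLn N k →ₐ[k] B} (h : mat x = mat y) : x = y := by
  refine GLn.algHom_ext (fun i j => congrFun (congrFun h i) j) ?_
  refine (isUnit_det_mat y).mul_right_injective.eq_iff.1 ?_
  rw [det_mat_mul, ← h, det_mat_mul]

/-- The point with a given matrix. -/
def pt (M : Matrix (Fin N) (Fin N) B) (h : IsUnit M.det) : GLn N k →ₐ[k] B :=
  GLn.pt N k M (↑h.unit⁻¹ : B) h.mul_val_inv

@[simp] theorem mat_pt (M : Matrix (Fin N) (Fin N) B) (h : IsUnit M.det) : mat (k := k) (pt M h) = M := by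
  ext i j
  exact GLn.pt_X M _ h.mul_val_inv i j

theorem mat_comp {B' : Type*} [CommRing B'] [Algebra k B'] (h : B →ₐ[k] B') (x : GLn N k →ₐ[k] B) :
    mat (h.comp x) = (mat x).map h := rfl

theorem mat_id : mat (AlgHom.id k (GLn N k)) = GLn.genMat N k := rfl

theorem mat_counit : mat (Bialgebra.counitAlgHom k (GLn N k)) = 1 := by
  ext i j
  rw [mat_apply, Bialgebra.counitAlgHom_apply, GLn.counit_X, Matrix.one_apply]

theorem mat_conv (x y : GLn N k →ₐ[k] B) :
    mat ((Algebra.TensorProduct.lift x y fun _ _ => Commute.all _ _).comp (Bialgebra.comulAlgHom k (GLn N k))) =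
      mat x * mat y := by
  ext i j
  rw [mat_apply, AlgHom.comp_apply, Bialgebra.comulAlgHom_apply, GLn.comul_X, map_sum, Matrix.mul_apply]
  exact Finset.sum_congr rfl fun l _ => Algebra.TensorProduct.lift_tmul x y _ _ _

section Subgroup

variable {A : Type u} [CommRing A] [HopfAlgebra k A] (π : GLn N k →ₐc[k] A)

/-- The matrix of a point of the subgroup. -/
def gMat (h : A →ₐ[k] B) : Matrix (Fin N) (Fin N) B := mat (h.comp (π : GLn N k →ₐ[k] A))

theorem gMat_conv (h₁ h₂ : A →ₐ[k] B) :
    gMat π ((Algebra.TensorProduct.lift h₁ h₂ fun _ _ => Commute.all _ _).comp (Bialgebra.comulAlgHom k A)) =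
      gMat π h₁ * gMat π h₂ := by
  rw [gMat, gMat, gMat, ← mat_conv]
  refine congrArg mat (AlgHom.ext fun r => ?_)
  simp only [AlgHom.comp_apply, Bialgebra.comulAlgHom_apply]
  have h := CoalgHomClass.map_comp_comul_apply π r
  rw [show ((π : GLn N k →ₐ[k] A) r) = π r from rfl, ← h]
  generalize CoalgebraStruct.comul (R := k) r = z
  induction z using TensorProduct.induction_on with
  | zero => simp
  | tmul a b => simp
  | add a b ha hb => simp only [map_add, ha, hb]

theorem gMat_inv_mul (h : A →ₐ[k] B) :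
    gMat π (h.comp (HopfAlgebra.antipodeAlgHom k A)) * gMat π h = 1 := by
  rw [← gMat_conv]
  have e : (Algebra.TensorProduct.lift (h.comp (HopfAlgebra.antipodeAlgHom k A)) h fun _ _ => Commute.all _ _).comp
      (Bialgebra.comulAlgHom k A) = (Algebra.ofId k B).comp (Bialgebra.counitAlgHom k A) := by
    refine AlgHom.ext fun a => ?_
    have := congrArg h (LinearMap.congr_fun (HopfAlgebra.mul_antipode_rTensor_comul (R := k) (A := A)) a)
    simp only [LinearMap.comp_apply, Algebra.linearMap_apply, AlgHom.commutes] at this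
    refine Eq.trans ?_ this
    simp only [AlgHom.comp_apply, Bialgebra.comulAlgHom_apply]
    generalize CoalgebraStruct.comul (R := k) a = z
    induction z using TensorProduct.induction_on with
    | zero => simp
    | tmul a b => simp
    | add a b ha hb => simp only [map_add, ha, hb]
  rw [e]
  ext i j
  simp only [gMat, mat_apply, AlgHom.comp_apply, Bialgebra.counitAlgHom_apply]
  rw [show CoalgebraStruct.counit (R := k) ((π : GLn N k →ₐ[k] A) (GLn.X i j)) =
    CoalgebraStruct.counit (R := k) (GLn.X i j) from CoalgHomClass.counit_comp_apply π _, GLn.counit_X,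
    Matrix.one_apply]
  split_ifs <;> simp

/-- Right translation by the subgroup. -/
def rho : GLn N k →ₐ[k] GLn N k ⊗[k] A :=
  (Algebra.TensorProduct.map (AlgHom.id k (GLn N k)) (π : GLn N k →ₐ[k] A)).comp
    (Bialgebra.comulAlgHom k (GLn N k))

theorem mat_rho : mat (rho π) =
    (GLn.genMat N k).map (Algebra.TensorProduct.includeLeft : GLn N k →ₐ[k] GLn N k ⊗[k] A) *
      gMat π (Algebra.TensorProduct.includeRight : A →ₐ[k] GLn N k ⊗[k] A) := by
  ext i j
  simp [rho, GLn.comul_X, Matrix.mul_apply, gMat, GLn.genMat]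

/-- Functions invariant under right translation by the subgroup. -/
def invC : Subalgebra k (GLn N k) := AlgHom.equalizer (rho π) Algebra.TensorProduct.includeLeft

theorem mem_invC {f : GLn N k} : f ∈ invC π ↔ rho π f = f ⊗ₜ[k] (1 : A) :=
  AlgHom.mem_equalizer _ _ _

/-- Invariant functions take equal values on a coset. -/
theorem rinv {f : GLn N k} (hf : f ∈ invC π) (x y : GLn N k →ₐ[k] B) (h : A →ₐ[k] B)
    (hy : mat y = mat x * gMat π h) : y f = x f := by
  have e : y = (Algebra.TensorProduct.lift x h fun _ _ => Commute.all _ _).comp (rho π) := by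
    refine ext (hy.trans ?_)
    rw [mat_comp, mat_rho]
    ext i j
    simp [Matrix.mul_apply, gMat, GLn.genMat]
  rw [e, AlgHom.comp_apply, (mem_invC π).1 hf]
  simp

theorem eq_on_G {f : GLn N k} (hf : f ∈ invC π) (h : A →ₐ[k] B) :
    (h.comp (π : GLn N k →ₐ[k] A)) f = algebraMap k B (CoalgebraStruct.counit (R := k) f) := by
  refine (rinv π hf ((Algebra.ofId k B).comp (Bialgebra.counitAlgHom k (GLn N k))) _ h ?_)
  rw [mat_comp _ (Bialgebra.counitAlgHom k (GLn N k)), mat_counit]
  simp [gMat]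

/-- Left translation by a matrix over `k`. -/
def lt (a : Matrix (Fin N) (Fin N) k) (ha : IsUnit a.det) : GLn N k →ₐ[k] GLn N k :=
  pt (a.map (algebraMap k _) * GLn.genMat N k) (by
    rw [Matrix.det_mul, ← RingHom.mapMatrix_apply, ← RingHom.map_det]
    exact (ha.map _).mul (mat_id (k := k) (N := N) ▸ isUnit_det_mat _))

theorem mat_comp_lt (a : Matrix (Fin N) (Fin N) k) (ha : IsUnit a.det) (x : GLn N k →ₐ[k] B) :
    mat (x.comp (lt a ha)) = a.map (algebraMap k B) * mat x := by
  rw [mat_comp, lt, mat_pt, Matrix.map_mul, Matrix.map_map]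
  congr 1
  ext i j
  simp

/-- Left translation of an invariant function. -/
theorem lt_mem {f : GLn N k} (hf : f ∈ invC π) (a : Matrix (Fin N) (Fin N) k) (ha : IsUnit a.det) :
    lt a ha f ∈ invC π := by
  rw [mem_invC]
  refine rinv π hf ((Algebra.TensorProduct.includeLeft : GLn N k →ₐ[k] GLn N k ⊗[k] A).comp (lt a ha))
    ((rho π).comp (lt a ha)) Algebra.TensorProduct.includeRight ?_
  rw [mat_comp_lt, mat_comp_lt, mat_rho, ← mul_assoc]
  rfl

section Expansion

variable {C₀ : Type u} [CommRing C₀] [Algebra k C₀]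

/-- Left translation by a matrix over an algebra. -/
def tw (a : Matrix (Fin N) (Fin N) C₀) (ha : IsUnit a.det) : GLn N k →ₐ[k] GLn N k ⊗[k] C₀ :=
  pt (a.map (Algebra.TensorProduct.includeRight : C₀ →ₐ[k] GLn N k ⊗[k] C₀) *
      (GLn.genMat N k).map (Algebra.TensorProduct.includeLeft : GLn N k →ₐ[k] GLn N k ⊗[k] C₀)) (by
    rw [Matrix.det_mul]
    refine IsUnit.mul ?_ ?_
    · rw [← AlgHom.mapMatrix_apply, ← AlgHom.map_det]
      exact ha.map _
    · exact isUnit_det_mat ((Algebra.TensorProduct.includeLeft : GLn N k →ₐ[k] GLn N k ⊗[k] C₀)))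

theorem mat_comp_tw {B' : Type*} [CommRing B'] [Algebra k B'] (a : Matrix (Fin N) (Fin N) C₀)
    (ha : IsUnit a.det) (φ : GLn N k ⊗[k] C₀ →ₐ[k] B') :
    mat (φ.comp (tw a ha)) = a.map (φ.comp Algebra.TensorProduct.includeRight) *
      mat (φ.comp Algebra.TensorProduct.includeLeft) := by
  rw [mat_comp, tw, mat_pt, Matrix.map_mul, Matrix.map_map, Matrix.map_map]
  rfl

/-- The coefficients of a translated invariant function are invariant. -/
theorem exists_expansion {f : GLn N k} (hf : f ∈ invC π) (a : Matrix (Fin N) (Fin N) C₀) (ha : IsUnit a.det)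
    {σ : Type*} (b : Module.Basis σ k C₀) :
    ∃ c : σ →₀ GLn N k, (∀ e, c e ∈ invC π) ∧
      ∀ {K : Type u} [CommRing K] [Algebra k K] (x y : GLn N k →ₐ[k] K) (β : C₀ →ₐ[k] K),
        mat y = a.map β * mat x → y f = c.sum fun e r => x r * β (b e) := by
  classical
  let E := TensorProduct.equivFinsuppOfBasisRight (M := GLn N k) b
  let z := tw a ha f
  refine ⟨E z, fun e => ?_, ?_⟩
  · rw [mem_invC]
    have hkey : Algebra.TensorProduct.map (rho π) (AlgHom.id k C₀) z =
        Algebra.TensorProduct.map (Algebra.TensorProduct.includeLeft : GLn N k →ₐ[k] GLn N k ⊗[k] A)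
          (AlgHom.id k C₀) z := by
      refine rinv π hf
        ((Algebra.TensorProduct.map (Algebra.TensorProduct.includeLeft : GLn N k →ₐ[k] GLn N k ⊗[k] A)
          (AlgHom.id k C₀)).comp (tw a ha))
        ((Algebra.TensorProduct.map (rho π) (AlgHom.id k C₀)).comp (tw a ha))
        ((Algebra.TensorProduct.includeLeft : GLn N k ⊗[k] A →ₐ[k] (GLn N k ⊗[k] A) ⊗[k] C₀).comp
          Algebra.TensorProduct.includeRight) ?_
      rw [mat_comp_tw, mat_comp_tw, mul_assoc]
      congr 1
      · ext i j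
        simp
      · ext i j
        simp [Matrix.mul_apply, gMat, rho, GLn.comul_X, map_sum, Algebra.TensorProduct.map_tmul]
    have hnat : ∀ (φ : GLn N k →ₐ[k] GLn N k ⊗[k] A) (w : GLn N k ⊗[k] C₀),
        TensorProduct.equivFinsuppOfBasisRight b (Algebra.TensorProduct.map φ (AlgHom.id k C₀) w) e =
          φ (E w e) := by
      intro φ w
      induction w using TensorProduct.induction_on with
      | zero => simp
      | tmul r c => simp [E, map_smul]
      | add p q hp hq => simp only [map_add, Finsupp.add_apply, hp, hq]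
    have := congrArg (fun w => TensorProduct.equivFinsuppOfBasisRight b w e) hkey
    simp only [hnat] at this
    exact this
  · intro K _ _ x y β hy
    have e : y = (Algebra.TensorProduct.lift x β fun _ _ => Commute.all _ _).comp (tw a ha) := by
      refine ext (hy.trans ?_)
      rw [mat_comp_tw]
      congr 1 <;> ext i j <;> simp
    rw [e, AlgHom.comp_apply]
    conv_lhs => rw [show tw a ha f = E.symm (E z) from (E.symm_apply_apply _).symm]
    rw [TensorProduct.equivFinsuppOfBasisRight_symm_apply, map_finsuppSum]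
    exact Finsupp.sum_congr fun i _ => Algebra.TensorProduct.lift_tmul x β _ _ _

end Expansion

section Sep

variable [IsAlgClosed k]

omit [IsAlgClosed k] in
theorem finiteType_GLn : Algebra.FiniteType k (GLn N k) := by
  haveI : Algebra.FiniteType k (GLb N k) :=
    inferInstanceAs (Algebra.FiniteType k (MvPolynomial (GLPoly.Idx N) k))
  exact Algebra.FiniteType.of_surjective (GLn.mk N k) Ideal.Quotient.mk_surjective

omit [IsAlgClosed k] in
theorem isCoact :
    @GLin.IsCoactAlg k _ A _ _ (GLn N k) _ _ (GLin.comodAlong π (HopfRep.Comod.regular k (GLn N k))) :=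
  GLin.isCoactAlg_comodAlong π _
    (letI := HopfRep.Comod.regular k (GLn N k); ⟨Bialgebra.comul_one, Bialgebra.comul_mul⟩)

omit [IsAlgClosed k] in
theorem mem_fixed_iff {f : GLn N k} :
    f ∈ @HopfRep.fixedPts k A _ _ _ (GLn N k) _ _ (GLin.comodAlong π (HopfRep.Comod.regular k (GLn N k))) ↔
      f ∈ invC π := by
  rw [mem_invC]
  exact Iff.rfl

omit [IsAlgClosed k] in
theorem exists_generators (hG : HopfRep.IsLinearlyReductive k A) :
    ∃ s : Finset (GLn N k), (∀ f ∈ s, f ∈ invC π) ∧ invC π ≤ Algebra.adjoin k (s : Set (GLn N k)) := by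
  letI := GLin.comodAlong π (HopfRep.Comod.regular k (GLn N k))
  haveI := isCoact π
  haveI := finiteType_GLn (k := k) (N := N)
  obtain ⟨s, hs, hs'⟩ := Groth.L08.exists_finset_invariants (R := GLn N k) hG
  exact ⟨s, fun f hf => (mem_fixed_iff π).1 (hs f hf), fun f hf => hs' f ((mem_fixed_iff π).2 hf)⟩

theorem exists_lift (hG : HopfRep.IsLinearlyReductive k A) (χ : invC π →ₐ[k] k) :
    ∃ x : GLn N k →ₐ[k] k, ∀ f : invC π, x f = χ f := by
  letI := GLin.comodAlong π (HopfRep.Comod.regular k (GLn N k))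
  haveI := isCoact π
  haveI := finiteType_GLn (k := k) (N := N)
  let e : GLin.invariants k A (GLn N k) →ₐ[k] invC π :=
    Subalgebra.inclusion fun f hf => (mem_fixed_iff π).1 hf
  have hbot : HopfRep.IsSubcomod (k := k) (A := A) ((⊥ : Ideal (GLn N k)).restrictScalars k) := by
    intro w hw
    have : w = 0 := hw
    rw [this, map_zero]
    exact zero_mem _
  obtain ⟨x, -, hx⟩ := Groth.L08.GITSep.exists_point_lift hG hbot (χ.comp e) (fun f hf => by
    have h0 : (f : GLn N k) = 0 := hf
    rw [show f = 0 from Subtype.ext h0, map_zero])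
  exact ⟨x, fun f => hx ⟨f.1, (mem_fixed_iff π).2 f.2⟩⟩

/-- The invariant functions cut out the subgroup. -/
theorem mem_G (hπ : Function.Surjective π) (hG : HopfRep.IsLinearlyReductive k A) (x : GLn N k →ₐ[k] k)
    (hx : ∀ f ∈ invC π, x f = CoalgebraStruct.counit (R := k) f) :
    ∃ h : A →ₐ[k] k, x = h.comp (π : GLn N k →ₐ[k] A) := by
  letI := GLin.comodAlong π (HopfRep.Comod.regular k (GLn N k))
  haveI := isCoact π
  haveI := finiteType_GLn (k := k) (N := N)
  obtain ⟨z, hzx, hze⟩ := (Groth.L08.GITSep.forall_eq_iff hG x (Bialgebra.counitAlgHom k (GLn N k))).1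
    fun f hf => hx f ((mem_fixed_iff π).1 hf)
  have horb : ∀ y : GLn N k →ₐ[k] k, mat (GLin.orbitHom k A y) =
      (mat y).map (algebraMap k A) * gMat π (AlgHom.id k A) := by
    intro y
    ext i j
    have hc : GLin.coactAlgHom k A (GLn N k) (GLn.X i j) = rho π (GLn.X i j) := rfl
    rw [mat_apply, GLin.orbitHom, AlgHom.comp_apply, AlgHom.comp_apply, hc]
    simp [rho, GLn.comul_X, Matrix.mul_apply, gMat, Algebra.smul_def]
  have hfac : ∀ y : GLn N k →ₐ[k] k, (∀ f, π f = 0 → y f = 0) → ∃ h : A →ₐ[k] k,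
      y = h.comp (π : GLn N k →ₐ[k] A) := by
    intro y hy
    refine ⟨(Ideal.Quotient.liftₐ (RingHom.ker (π : GLn N k →ₐ[k] A)) y hy).comp
      (Ideal.quotientKerAlgEquivOfSurjective (f := (π : GLn N k →ₐ[k] A)) hπ).symm.toAlgHom, AlgHom.ext fun r => ?_⟩
    rw [AlgHom.comp_apply, AlgHom.comp_apply]
    have : (Ideal.quotientKerAlgEquivOfSurjective (f := (π : GLn N k →ₐ[k] A)) hπ).symm ((π : GLn N k →ₐ[k] A) r) =
        Ideal.Quotient.mk _ r := by
      rw [AlgEquiv.symm_apply_eq]
      rfl
    change y r = Ideal.Quotient.liftₐ _ y hy ((Ideal.quotientKerAlgEquivOfSurjective _).symm _)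
    rw [this]
    rfl
  obtain ⟨h₁, hh₁⟩ := hfac z fun f hf => hze (by
    rw [RingHom.mem_ker, show GLin.orbitHom k A (Bialgebra.counitAlgHom k (GLn N k)) = (π : GLn N k →ₐ[k] A) from
      ext (by rw [horb, mat_counit]; simp [gMat])]
    exact hf)
  let Xi := (mat x)⁻¹
  have hXi : IsUnit Xi.det := Matrix.isUnit_nonsing_inv_det _ (isUnit_det_mat x)
  obtain ⟨h₂, hh₂⟩ := hfac (z.comp (lt Xi hXi)) fun f hf => hzx (by
    rw [RingHom.mem_ker]
    refine Eq.trans ?_ hf
    refine AlgHom.congr_fun (ext (x := (GLin.orbitHom k A x).comp (lt Xi hXi)) (y := (π : GLn N k →ₐ[k] A)) ?_) f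
    rw [mat_comp_lt, horb, ← mul_assoc, ← Matrix.map_mul, Matrix.nonsing_inv_mul _ (isUnit_det_mat x)]
    simp [gMat])
  refine ⟨(Algebra.TensorProduct.lift h₁ (h₂.comp (HopfAlgebra.antipodeAlgHom k A)) fun _ _ => Commute.all _ _).comp
    (Bialgebra.comulAlgHom k A), ext ?_⟩
  have e2 : gMat π h₂ = Xi * mat z := by
    rw [gMat, ← hh₂, mat_comp_lt]
    simp
  have e3 : gMat π (h₂.comp (HopfAlgebra.antipodeAlgHom k A)) = (mat z)⁻¹ * mat x := by
    rw [← Matrix.inv_eq_left_inv (gMat_inv_mul π h₂), e2, Matrix.mul_inv_rev,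
      Matrix.nonsing_inv_nonsing_inv _ (isUnit_det_mat x)]
  change mat x = gMat π _
  rw [gMat_conv, e3, gMat, ← hh₁, ← mul_assoc, Matrix.mul_nonsing_inv _ (isUnit_det_mat z), one_mul]

end Sep

end Subgroup

end Groth.L14.HM.Gen
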